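import Groth.Agent.L05.MinExist.Data
import Groth.Agent.L05.MinModel.P1
import Groth.Agent.L05.ModelProj.Main
import Groth.Agent.L05.RelMinExists.Main
import Groth.Agent.S3254

/-!
# Minimal models below a regular proper model
-/

set_option autoImplicit false
set_option linter.style.haveILetI false
set_option backward.isDefEq.respectTransparency false

universe u

open CategoryTheory CategoryTheory.Limits AlgebraicGeometry TopologicalSpace

noncomputable section

namespace Groth.L05.MinExist

variable {R : Type u} [CommRing R] [IsDomain R] [IsDiscreteValuationRing R]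

/-- A morphism which is an isomorphism over an open containing the generic fibre. -/
theorem isIso_genericFibre_of_restrict {X Y : Over (Spec (CommRingCat.of R))} (h : X ⟶ Y) (W : Y.left.Opens)
    [IsIso (h.left ∣_ W)] (hW : ∀ y : Y.left, Y.hom y ≠ IsLocalRing.closedPoint R → y ∈ W) :
    IsIso ((Neron.genericFibre R).map h) := by
  let jX := pullback.fst X.hom (Neron.genPt R)
  let jY := pullback.fst Y.hom (Neron.genPt R)
  let e := ((Neron.genericFibre R).map h).left
  have hej : e ≫ jY = jX ≫ h.left := pullback.lift_fst _ _ _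
  have hes : e ≫ pullback.snd Y.hom (Neron.genPt R) = pullback.snd X.hom (Neron.genPt R) := pullback.lift_snd _ _ _
  have hne : ∀ b, Y.hom (jY b) ≠ IsLocalRing.closedPoint R := fun b => by
    rw [← Scheme.Hom.comp_apply, pullback.condition, Scheme.Hom.comp_apply]
    exact (Groth.L05.MinModel.range_gen (R := R)).subset ⟨_, rfl⟩
  have hjY : Set.range jY ⊆ Set.range W.ι := by
    rintro _ ⟨b, rfl⟩
    rw [Scheme.Opens.range_ι]
    exact hW _ (hne b)
  let l := IsOpenImmersion.lift W.ι jY hjY
  let t := l ≫ inv (h.left ∣_ W) ≫ (h.left ⁻¹ᵁ W).ι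
  have ht : t ≫ h.left = jY := by
    show (l ≫ inv (h.left ∣_ W) ≫ (h.left ⁻¹ᵁ W).ι) ≫ h.left = jY
    rw [Category.assoc, Category.assoc, ← morphismRestrict_ι, IsIso.inv_hom_id_assoc, IsOpenImmersion.lift_fac]
  let k : ((Neron.genericFibre R).obj Y).left ⟶ ((Neron.genericFibre R).obj X).left :=
    pullback.lift t (pullback.snd _ _) (by rw [← Over.w h, ← Category.assoc, ht, pullback.condition])
  have hk1 : k ≫ jX = t := pullback.lift_fst _ _ _
  have hk2 : k ≫ pullback.snd X.hom (Neron.genPt R) = pullback.snd Y.hom (Neron.genPt R) := pullback.lift_snd _ _ _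
  haveI : IsIso e := ⟨k, pullback.hom_ext (by
      show (e ≫ k) ≫ jX = 𝟙 _ ≫ jX
      rw [Category.id_comp, Category.assoc, hk1]
      refine Groth.L05.PtSeq.eq_of_mono_over h.left W (by rw [Category.assoc, ht, hej]) fun a => ?_
      rw [← Scheme.Hom.comp_apply, Category.assoc, ht]
      exact hW _ (hne _))
      (by
        show (e ≫ k) ≫ pullback.snd X.hom (Neron.genPt R) = 𝟙 _ ≫ _
        rw [Category.id_comp, Category.assoc, hk2, hes]), pullback.hom_ext (by
      show (k ≫ e) ≫ jY = 𝟙 _ ≫ jY
      rw [Category.id_comp, Category.assoc, hej, ← Category.assoc, hk1, ht]) (by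
      show (k ≫ e) ≫ pullback.snd Y.hom (Neron.genPt R) = 𝟙 _ ≫ _
      rw [Category.id_comp, Category.assoc, hes, hk2])⟩
  haveI : IsIso ((Over.forget _).map ((Neron.genericFibre R).map h)) := ‹IsIso e›
  exact isIso_of_reflects_iso _ (Over.forget _)

/-- Relatively minimal models have no exceptional vertical curve. -/
theorem not_isExcCurve_of_relMinimal {Y : Over (Spec (CommRingCat.of R))} (hY : ArSurf.IsArithSurface R Y)
    (hmin : Neron.IsRelMinimalRegularModel R Y) (Γ : ArSurf.VertComp R Y) : ¬ Models.IsExcCurve Γ.ι := by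
  intro hexc
  obtain ⟨hrY, hiY, hdY, hfY, hpY⟩ := id hY
  haveI := hiY
  haveI : IsProper Y.hom := Groth.L05.RelMinExists.isProper_of_projective hpY
  haveI : IsNoetherianRing (CommRingCat.of R) := inferInstanceAs (IsNoetherianRing R)
  haveI : IsLocallyNoetherian Y.left := LocallyOfFiniteType.isLocallyNoetherian Y.hom
  obtain ⟨L, -, ⟨hL⟩⟩ := Groth.L08.Cube.exists_inverse
    ((Groth.Agent.L19.IdealInvertible.isEffCartier_iff _).2 hexc.1)
  have hL' : ClSub.IsInverseOf L (ClSub.idealMod Γ.ι.ker) := ⟨Groth.L00.Tensor.tensorComm _ _ ≪≫ hL⟩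
  obtain ⟨k', _, _, _, e, he, hself⟩ := exists_excData Γ hexc L hL'
  obtain ⟨Z, g, z, hz, hZ, hrange, -, hiso⟩ := Groth.Agent.S3254.result R Y hY Γ k' e he L hL' hself
  haveI := hiso
  haveI : IsProper Z.hom := Groth.L05.RelMinExists.isProper_of_projective hZ.2.2.2.2
  have hzs := Groth.L05.MinModel.closedPoint_of_closed Z.hom hz
  haveI : IsIso ((Neron.genericFibre R).map g) :=
    isIso_genericFibre_of_restrict g ⟨{z}ᶜ, hz.isOpen_compl⟩ fun w hw h => hw (by rw [show w = z from h]; exact hzs)
  haveI : IsIso g := hmin.2.2.2 Z hZ.1 hZ.2.2.2.2 hZ.2.2.2.1 g inferInstance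
  haveI : IsIso g.left := inferInstanceAs (IsIso ((Over.forget _).map g))
  haveI : Subsingleton Γ.curve.left := ⟨fun c d => Γ.ι.isClosedEmbedding.injective <|
    g.left.homeomorph.injective <| by
      have h1 : ∀ c, (Γ.ι ≫ g.left) c = z := fun c => hrange.subset ⟨c, rfl⟩
      exact (h1 c).trans (h1 d).symm⟩
  haveI : DiscreteTopology Γ.curve.left := Subsingleton.discreteTopology
  have h0 := topologicalKrullDim_zero_of_discreteTopology Γ.curve.left
  rw [Γ.dim_eq] at h0
  exact absurd h0 (by decide)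

variable {C : Scheme.{u}} {f : C ⟶ Spec (CommRingCat.of (FractionRing R))}

/-- Every regular proper model maps by a sequence of contractions onto a minimal one. -/
theorem exists_morphism_to_minimal (hC : Curve.IsSmoothProperCurve (FractionRing R) C f)
    {Y : Scheme.{u}} {q : Y ⟶ Spec (CommRingCat.of R)} (hY : Models.IsRegularProperModel R Y q C f)
    {gY : C ⟶ Y} (hgY : IsPullback gY f q (Neron.genPt R)) :
    ∃ (X : Scheme.{u}) (p : X ⟶ Spec (CommRingCat.of R)) (gX : C ⟶ X) (b : Y ⟶ X),
      Models.IsMinimalModel R X p C f ∧ IsPullback gX f p (Neron.genPt R) ∧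
      b ≫ p = q ∧ gY ≫ b = gX ∧ Models.IsContractionSeq b := by
  have hA := Groth.L05.ModelProj.isArithSurface hC hY
  haveI : IsIntegral (Over.mk q).left := hA.2.1
  haveI : AlgebraicGeometry.IsNoetherian (Over.mk q).left := (Groth.L05.MinModel.surface hC hY).2.1
  obtain ⟨X, h, hX, hmin, hh⟩ := Groth.L05.RelMinExists.exists_relMinimal (Over.mk q) hA
  haveI := hh
  obtain ⟨hrX, hiX, hdX, hfX, hpX⟩ := id hX
  haveI : IsProper X.hom := Groth.L05.RelMinExists.isProper_of_projective hpX
  let e := (Over.forget _).mapIso (asIso ((Neron.genericFibre R).map h))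
  have hej : e.hom ≫ pullback.fst X.hom (Neron.genPt R) = pullback.fst q (Neron.genPt R) ≫ h.left :=
    pullback.lift_fst _ _ _
  have hes : e.hom ≫ pullback.snd X.hom (Neron.genPt R) = pullback.snd q (Neron.genPt R) := pullback.lift_snd _ _ _
  have hg : IsPullback (gY ≫ h.left) f X.hom (Neron.genPt R) :=
    IsPullback.of_iso_pullback ⟨by rw [Category.assoc, Over.w h]; exact hgY.w⟩ (hgY.isoPullback ≪≫ e)
      (by rw [Iso.trans_hom, Category.assoc, hej, hgY.isoPullback_hom_fst_assoc])
      (by rw [Iso.trans_hom, Category.assoc, hes, hgY.isoPullback_hom_snd])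
  haveI : IsNoetherianRing (CommRingCat.of R) := inferInstanceAs (IsNoetherianRing R)
  have hM : Models.IsRegularProperModel R X.left X.hom C f :=
    ⟨⟨hfX, inferInstance, inferInstance, _, hg⟩, ‹IsProper X.hom›, hrX⟩
  refine ⟨X.left, X.hom, gY ≫ h.left, h.left, ⟨hM, fun Γ => not_isExcCurve_of_relMinimal hX hmin Γ⟩, hg,
    Over.w h, rfl, ?_⟩
  obtain ⟨hint, hN, hd, -⟩ := Groth.L05.MinModel.surface hC hY
  obtain ⟨hint', hN', hd', -⟩ := Groth.L05.MinModel.surface hC hM
  haveI := hint; haveI := hN; haveI := hint'; haveI := hN'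
  haveI : IsIntegral C := hC.2.2.1
  haveI := hY.2.1
  haveI : IsProper (h.left ≫ X.hom) := by rw [Over.w h]; exact hY.2.1
  haveI : IsProper h.left := IsProper.of_comp h.left X.hom
  haveI := Groth.L05.MinModel.isOpenImmersion_model hg
  exact Groth.Agent.S7314.result h.left ⟨(gY ≫ h.left).opensRange, Set.range_nonempty _,
    Groth.L05.MinModel.isIso_over_generic hgY hg h.left (Over.w h) rfl⟩ hY.2.2 hd hrX hd'

end Groth.L05.MinExist
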