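import Groth.Agent.L05.PointBlowArith.Numeric
import Groth.Agent.L05.ExcCurve.Main
import Groth.Agent.L05.InterPair.Model
import Groth.Agent.L05.InterPair.Twist

/-!
# The constants of an exceptional vertical curve
-/

set_option autoImplicit false
set_option linter.style.haveILetI false
set_option backward.isDefEq.respectTransparency false

universe u

open CategoryTheory CategoryTheory.Limits AlgebraicGeometry TopologicalSpace

noncomputable section

namespace Groth.L05.MinExist

open Groth.L05.PointBlowArith (toGlobal_comp toGlobal_comp_Spec)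

variable {R : Type u} [CommRing R] [IsDomain R] [IsDiscreteValuationRing R]
  {X : Over (Spec (CommRingCat.of R))}

/-- An exceptional vertical curve is a projective line over a finite extension of the residue field, of
self-intersection minus the degree of that extension. -/
theorem exists_excData [IsProper X.hom] [IsLocallyNoetherian X.left] [IsIntegral X.left] (Γ : ArSurf.VertComp R X)
    (hexc : Models.IsExcCurve Γ.ι) (L : X.left.Modules) (hL : ClSub.IsInverseOf L (ClSub.idealMod Γ.ι.ker)) :
    ∃ (k' : Type u) (_ : Field k') (_ : Algebra (IsLocalRing.ResidueField R) k')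
      (_ : FiniteDimensional (IsLocalRing.ResidueField R) k') (e : Γ.curve.left ≅ CohB1.ProjSpace 1 k'),
      e.hom ≫ (CohB1.ProjSpace 1 k' ↘ Spec (CommRingCat.of k')) ≫
          Spec.map (CommRingCat.ofHom (algebraMap (IsLocalRing.ResidueField R) k')) = Γ.curve.hom ∧
        ArSurf.inter R X L Γ = -(Module.finrank (IsLocalRing.ResidueField R) k' : ℤ) := by
  obtain ⟨hE, k, hk, e, ⟨j⟩⟩ := hexc
  haveI := Groth.L05.InterPair.isProper_curve Γ
  have hN : PicF.IsInvertible ((Scheme.Modules.pullback Γ.ι).obj (ClSub.idealMod Γ.ι.ker)) :=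
    Groth.L18.Ample.isInvertible_pullback _ ((Groth.Agent.L19.IdealInvertible.isEffCartier_iff _).2 hE)
  obtain ⟨-, hdeg⟩ := Groth.L05.ExcCurve.invariants_of_projLine (IsLocalRing.ResidueField R) Γ.dim_eq hN e
    ((Scheme.Modules.pullbackComp e.hom Γ.ι).app _ ≪≫ j)
  have hneg := Groth.L05.InterPair.inter_eq_neg_negDeg Γ hE hL
  rw [Groth.L05.InterPair.negDeg, ArSurf.inter, ArSurf.inter, hdeg] at hneg
  let κ := IsLocalRing.ResidueField R
  let T := Γ.curve.left
  let s := CohB1.ProjSpace.toSpec 1 k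
  let χ : Γ(T, ⊤) ≃+* k :=
    (asIso e.hom.appTop).commRingCatIsoToRingEquiv.trans (RingEquiv.ofBijective (Coh.toGlobal s)
      (Groth.L16.ProjSpace.toGlobal_bijective (n := 1) (R := k))).symm
  let g : κ →+* Γ(T, ⊤) := Coh.toGlobal Γ.curve.hom
  let φ : κ →+* k := χ.toRingHom.comp g
  letI : Algebra κ k := φ.toAlgebra
  let hT : IsTerminal (⊤ : TopologicalSpace.Opens T) :=
    IsTerminal.ofUniqueHom (fun U => homOfLE le_top) (fun _ _ => rfl)
  let F := Coh.toAb (Coh.structureModule T)
  let e₀ : Coh.HH T (Coh.structureModule T) 0 ≃+ Γ(T, ⊤) := Sheaf.H.equiv₀ F hT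
  have he₀ : ∀ (c : κ) x, e₀ (c • x) = @HMul.hMul Γ(T, ⊤) Γ(T, ⊤) Γ(T, ⊤) _ (g c) (e₀ x) := fun c x => by
    show Sheaf.H.equiv₀ F hT (Sheaf.H.map (Coh.smulAb (Coh.structureModule T) _) 0 x) = _
    rw [← Sheaf.H.equiv₀_naturality]
    refine (Coh.smulAb_app (Coh.structureModule T) _ (Opposite.op ⊤) _).trans ?_
    show Coh.resTop T (Opposite.op ⊤) _ * _ = _
    congr 1
    simp [Coh.resTop, g, Coh.toGlobal]
    rfl
  let el : Coh.HH T (Coh.structureModule T) 0 ≃ₗ[κ] k :=
    { e₀.trans χ.toAddEquiv with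
      map_smul' := fun c x => by
        show χ (e₀ (c • x)) = φ c * χ (e₀ x)
        rw [he₀, map_mul]
        rfl }
  haveI := Groth.L21.RR.isNoetherian_of_proper (X := Γ.curve.left) κ
  haveI := Groth.L21.RR.finite_HH' (k := κ) (Groth.L16.CohClosedPush.isCoh_structure (X := T)) 0
  haveI : FiniteDimensional κ k := Module.Finite.equiv el
  refine ⟨k, hk, inferInstance, inferInstance, e.symm, ?_, ?_⟩
  · show e.inv ≫ s ≫ Spec.map (CommRingCat.ofHom φ) = Γ.curve.hom
    rw [Iso.inv_comp_eq]
    have key : Coh.toGlobal (s ≫ Spec.map (CommRingCat.ofHom φ)) = Coh.toGlobal (e.hom ≫ Γ.curve.hom) := by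
      rw [toGlobal_comp_Spec, toGlobal_comp]
      ext c
      exact (RingEquiv.ofBijective (Coh.toGlobal s)
        (Groth.L16.ProjSpace.toGlobal_bijective (n := 1) (R := k))).apply_symm_apply _
    refine ext_of_isAffine ?_
    ext a
    obtain ⟨a, rfl⟩ := (Scheme.ΓSpecIso (CommRingCat.of κ)).symm.commRingCatIsoToRingEquiv.surjective a
    exact RingHom.congr_fun key a
  · rw [ArSurf.inter, hneg, el.finrank_eq]

end Groth.L05.MinExist
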